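import Groth.Agent.Lib.FibIso5.Basic
import Groth.Agent.Lib.Pur13.IsoAt

/-!
# The open locus over which a map of proper schemes with flat source becomes an isomorphism
-/

set_option autoImplicit false
set_option linter.style.haveILetI false
set_option backward.isDefEq.respectTransparency false
set_option backward.isDefEq.respectTransparency.types false

universe u

open CategoryTheory CategoryTheory.Limits AlgebraicGeometry

namespace Groth.Agent.MorSch18

open Groth.Agent

theorem isoAt_fromSpecResidueField_iff {X Y S : Scheme.{u}} (f : X ⟶ Y) (h : Y ⟶ S) (s : S) :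
    Pur13.IsoAt f h (S.fromSpecResidueField s) ↔ IsIso (CohIII.fiberMapOver f (f ≫ h) h rfl s) :=
  (Pur13.isIso_fiberι_iff s).trans (Pur13.isIso_snd_iff (FibIso5.isPullback_fiberMapOver f h s)).symm

/-- Being an isomorphism after a base change is governed by an open subset of the base. -/
theorem exists_open_isoAt {X Y S : Scheme.{u}} [IsLocallyNoetherian S] (f : X ⟶ Y) (h : Y ⟶ S)
    [IsProper (f ≫ h)] [Flat (f ≫ h)] [IsProper h] :
    ∃ U : S.Opens, ∀ {T : Scheme.{u}} (a : T ⟶ S), Set.range a ⊆ (U : Set S) ↔ Pur13.IsoAt f h a := by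
  haveI : LocallyOfFinitePresentation (f ≫ h) := inferInstance
  obtain ⟨U, hU, hiso⟩ := FibIso5.exists_open_locus f h
  refine ⟨U, fun {T} a => ⟨fun ha => ?_, fun ha => ?_⟩⟩
  · have hι : Pur13.IsoAt f h U.ι :=
      (Pur13.isoAt_iff_of_isPullback (isPullback_morphismRestrict h U).flip
        (isPullback_morphismRestrict f (h ⁻¹ᵁ U)).flip).2 hiso
    have : a = IsOpenImmersion.lift U.ι a (by rwa [U.range_ι]) ≫ U.ι := (IsOpenImmersion.lift_fac _ _ _).symm
    rw [this]
    exact Pur13.IsoAt.comp _ hι
  · rintro _ ⟨t, rfl⟩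
    refine (hU (a t)).2 ((isoAt_fromSpecResidueField_iff f h (a t)).1 ?_)
    refine Pur13.IsoAt.descend (Spec.map (a.residueFieldMap t)) ?_
    rw [a.SpecMap_residueFieldMap_fromSpecResidueField]
    exact Pur13.IsoAt.comp _ ha

theorem exists_open_iso_locus {S : Scheme.{u}} [IsLocallyNoetherian S] (X Y : Over S) [IsProper X.hom] [IsProper Y.hom]
    [Flat X.hom] (f : X ⟶ Y) :
    ∃ S₀ : S.Opens, ∀ (S' : Scheme.{u}) [IsLocallyNoetherian S'] (h : S' ⟶ S),
      Set.range h ⊆ (S₀ : Set S) ↔ IsIso ((Over.pullback h).map f).left := by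
  haveI : IsProper (f.left ≫ Y.hom) := by rw [Over.w]; infer_instance
  haveI : Flat (f.left ≫ Y.hom) := by rw [Over.w]; infer_instance
  obtain ⟨U, hU⟩ := exists_open_isoAt f.left Y.hom
  refine ⟨U, fun S' _ h => (hU h).trans ?_⟩
  refine Pur13.isoAt_iff_of_isPullback (IsPullback.of_hasPullback Y.hom h) (k := pullback.fst X.hom h)
    (IsPullback.of_bot ?_ ?_ (IsPullback.of_hasPullback Y.hom h))
  · have : ((Over.pullback h).map f).left ≫ pullback.snd Y.hom h = pullback.snd X.hom h := by simp
    rw [this, Over.w]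
    exact IsPullback.of_hasPullback X.hom h
  · simp

end Groth.Agent.MorSch18
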